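import Groth.Agent.StFib.InfCrit.Basic
import Groth.Agent.StFib.RatLift.Main
import Groth.Agent.StFib.LocQSquares
import Groth.Agent.StFib.UnivClosedAffine
import Groth.Agent.IsoCls.SmoothLift
import Groth.Agent.EtSection.SH
import Groth.Agent.S18309
import Groth.Agent.S10602

/-!
# Smoothness of morphisms of stacks and infinitesimal lifting
-/

set_option linter.unusedVariables false
set_option backward.isDefEq.respectTransparency false
set_option backward.isDefEq.respectTransparency.types false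

universe u

open CategoryTheory CategoryTheory.Limits AlgebraicGeometry Opposite FibCat

namespace Groth.Agent.StFib.InfCrit

open Groth.Agent.IsoCls (VHom IsRes)

variable {S : Scheme.{u}} {𝒳 𝒴 : AlgSt.Cat S}

local notation "E" => Scheme.etalePrecoverage

theorem exists_smooth_square_etale (h𝒳 : AlgSt.IsAlgStack E 𝒳)
    (h𝒴 : AlgSt.IsAlgStack E 𝒴) (f : 𝒳 ⥤ᵇ 𝒴) {V : Over S} {y : overCat V ⥤ᵇ 𝒴}
    (hy : AlgSt.RepByAlgSpWith (AlgSp.LocP @Smooth) y) :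
    ∃ (U : Over S) (x : overCat U ⥤ᵇ 𝒳) (h : U ⟶ V)
      (α : BasedFunctor.comp x f ≅ BasedFunctor.comp (AlgSt.overMap h) y),
      AlgSt.RepByAlgSpWith (AlgSp.LocP @Smooth) x ∧
      (AlgSt.RepByAlgSpWith AlgSp.IsSurjectiveMor y → AlgSt.RepByAlgSpWith AlgSp.IsSurjectiveMor x) ∧
      AlgSt.RepByAlgSpWith (AlgSp.LocP @Smooth) (fpLift x (AlgSt.overMap h) α) := by
  have hFy := isAlgStack_fp_etale h𝒳 (isAlgStack_overCat_etale V) h𝒴 f y
  obtain ⟨U, w, hw, hws⟩ := hFy.atlas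
  obtain ⟨h, ⟨ih⟩⟩ := exists_iso_overMap (BasedFunctor.comp w (fpSnd f y))
  obtain ⟨α, ⟨β⟩⟩ := exists_fpLift_of_functor w (Iso.refl (BasedFunctor.comp w (fpFst f y))) ih
  refine ⟨U, BasedFunctor.comp w (fpFst f y), h, α, ?_, fun hys => ?_, repByAlgSpWith_of_iso _ β hw⟩
  · exact repByAlgSpWith_comp good_smooth.bc good_smooth.comp good_smooth.det (isFibGrpd_overCat U)
      hFy.isStack.1 hw (repByAlgSpWith_fpFst _ f hy)
  · exact repByAlgSpWith_comp good_surjective.bc good_surjective.comp good_surjective.det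
      (isFibGrpd_overCat U) hFy.isStack.1 hws (repByAlgSpWith_fpFst _ f hys)

/-- Points with values in an Artinian local ring lift to smooth affine charts. -/
theorem exists_chart_lift {𝒲 : AlgSt.Cat S} (h : AlgSt.IsAlgStack E 𝒲) (R : Type u) [CommRing R]
    [IsLocalRing R] [IsArtinianRing R] (sR : Spec (CommRingCat.of R) ⟶ S)
    (w : overCat (Over.mk sR) ⥤ᵇ 𝒲) :
    ∃ (Z : Over S) (p : overCat Z ⥤ᵇ 𝒲) (g : Over.mk sR ⟶ Z),
      AlgSt.RepByAlgSpWith (AlgSp.LocP @Smooth) p ∧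
      ∃ β : w.obj (Over.mk (𝟙 (Over.mk sR))) ⟶ p.obj (Over.mk g), Vert β := by
  have : HenselianLocalRing R := EtSection.henselianLocalRing_of_isNilpotent R fun r hr => by
    obtain ⟨n, hn⟩ := IsArtinianRing.isNilpotent_jacobson_bot (R := R)
    refine ⟨n, ?_⟩
    have h1 : r ^ n ∈ (Ideal.jacobson (⊥ : Ideal R)) ^ n :=
      Ideal.pow_mem_pow (IsLocalRing.maximalIdeal_le_jacobson _ hr) n
    rw [hn] at h1
    exact h1
  let T : Over S := Over.mk sR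
  let Tk : Over S := Over.mk (Spec.map (CommRingCat.ofHom (IsLocalRing.residue R)) ≫ sR)
  let ρ : Tk ⟶ T := Over.homMk (Spec.map (CommRingCat.ofHom (IsLocalRing.residue R))) rfl
  obtain ⟨Z, -, p, g₀, hp, ⟨e⟩⟩ := RatLift.exists_rational_lift h.isStack h.diag h.atlas
    (Spec.map (CommRingCat.ofHom (IsLocalRing.residue R)) ≫ sR) (BasedFunctor.comp (AlgSt.overMap ρ) w)
  let o : (overCat Tk).obj := Over.mk (𝟙 Tk)
  let β₀ : VHom w p (𝟙 Tk ≫ ρ) (𝟙 Tk ≫ g₀) := ⟨(isoApp e o).inv, (vert_isoApp e o).inv⟩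
  obtain ⟨X, hX⟩ := RatLift.exists_pairSp h.isStack.1 w p (repByAlgSp1_of_with hp)
  let z₀ := (X.pts Tk).symm ⟨_, _, β₀⟩
  obtain ⟨z', hz', -⟩ := Groth.Agent.S18309.result (Z := X.A) (X := ⟨(AlgSp.yon S).obj T, AlgSp.IsAlgSpace.yon_obj T⟩)
    ⟨X.fst⟩ (hX _ good_smooth hp) R sR (𝟙 _) z₀ (by
      rw [Category.comp_id]
      exact (X.symm_fst ⟨_, _, β₀⟩).trans (congrArg _ (Category.id_comp ρ)))
  obtain ⟨hh, g, β, hP⟩ : ∃ hh g β, X.pts T z' = ⟨hh, g, β⟩ := ⟨_, _, _, rfl⟩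
  have h2 := X.pts_fst T z'
  rw [hP] at h2
  change _ = (AlgSp.yon S).map hh at h2
  obtain rfl : hh = 𝟙 T := (AlgSp.yon S).map_injective (h2.symm.trans (hz'.trans (CategoryTheory.Functor.map_id _ _).symm))
  exact ⟨Z, p, g, hp, β.1, β.2⟩

theorem isArtinianRing_of_surjective {A A₀ : Type u} [CommRing A] [IsArtinianRing A] [CommRing A₀]
    (φ : A →+* A₀) (hφ : Function.Surjective φ) : IsArtinianRing A₀ :=
  hφ.isArtinianRing

/-- Smooth morphisms have the infinitesimal lifting property for objects. -/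
theorem liftProp_of_smooth (h𝒳 : AlgSt.IsAlgStack E 𝒳) (h𝒴 : AlgSt.IsAlgStack E 𝒴) (f : 𝒳 ⥤ᵇ 𝒴)
    (hf : AlgSt.LocQ (AlgSp.LocP @Smooth) f) : LiftProp f := by
  intro A A₀ _ _ _ _ _ φ hφ hs sA ξ₀ η b hb
  have hI := StFib.ker_sq_eq_bot φ (hI := hs)
  have := isArtinianRing_of_surjective φ hφ
  let T : Over S := Over.mk sA
  let T₀ : Over S := Over.mk (Spec.map (CommRingCat.ofHom φ) ≫ sA)
  let i : T₀ ⟶ T := Over.homMk (Spec.map (CommRingCat.ofHom φ)) rfl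
  obtain ⟨y, jy, hjy⟩ := exists_overFunctor h𝒴.isStack.1 η hb.2.1
  obtain ⟨V, q, v, hq, βq, hβq⟩ := exists_chart_lift h𝒴 A sA y
  have hbq : OverHom (b ≫ jy.inv ≫ βq) i := hb.comp_vert (hjy.inv.comp hβq)
  let kv : (Over.mk (i ≫ v) : (overCat V).obj) ⟶ Over.mk v := Over.homMk i rfl
  obtain ⟨χ, hχ, hχe⟩ := (overHom_map q kv).exists_fac h𝒴.isStack.1 hbq
  let ζ₀ : (fp f q).obj := fpMk ξ₀ (Over.mk (i ≫ v)) χ hχ
  have hF := isAlgStack_fp_etale h𝒳 (isAlgStack_overCat_etale V) h𝒴 f q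
  obtain ⟨w, jw, hjw⟩ := exists_overFunctor hF.isStack.1 ζ₀ (U := T₀) ((f.w_obj ξ₀).symm.trans hb.1)
  obtain ⟨Z, p, u₀, hp, γ, hγ⟩ := exists_chart_lift hF A₀ (Spec.map (CommRingCat.ofHom φ) ≫ sA) w
  obtain ⟨h, ⟨ih⟩⟩ := exists_iso_overMap (BasedFunctor.comp p (fpSnd f q))
  obtain ⟨α, ⟨β⟩⟩ := exists_fpLift_of_functor p (Iso.refl (BasedFunctor.comp p (fpFst f q))) ih
  have hsm : AlgSp.LocP @Smooth ((AlgSp.yon S).map h) :=
    mem_of_locQ_of isAlgStack_overCat_etale (isSmoothLocalST_locP smoothLocalProp_smooth) h𝒳 h𝒴 hf α hq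
      (repByAlgSpWith_of_iso _ β hp)
  -- the point upstairs
  let ω : ζ₀ ⟶ p.obj (Over.mk u₀) := jw.inv ≫ γ
  have hω : Vert ω := hjw.inv.comp hγ
  let e₀ := isoApp ih (Over.mk u₀)
  have e1 : u₀ ≫ h = i ≫ v :=
    (eq_of_vert_overCat (a := i ≫ v) (b := u₀ ≫ h) (k := ω.hom.snd ≫ e₀.hom)
      ((vert_fp_snd hω).comp (vert_isoApp ih _))).symm
  have hfs : AlgSp.IsFormallySmoothMor ((AlgSp.yon S).map h) :=
    ((Groth.Agent.S10629.result (X := ⟨(AlgSp.yon S).obj Z, AlgSp.IsAlgSpace.yon_obj Z⟩)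
      (Y := ⟨(AlgSp.yon S).obj V, AlgSp.IsAlgSpace.yon_obj V⟩) ⟨(AlgSp.yon S).map h⟩).1 hsm).2
  obtain ⟨l, hl₁, hl₂⟩ := IsoCls.exists_lift_of_formallySmooth hfs (CommRingCat.ofHom φ) hφ hI i rfl
    ((AlgSp.yon S).map u₀) ((AlgSp.yon S).map v) (by rw [← Functor.map_comp, ← Functor.map_comp, e1])
  obtain ⟨u, rfl⟩ := (AlgSp.yon S).map_surjective l
  have hu₁ : i ≫ u = u₀ := (AlgSp.yon S).map_injective (((AlgSp.yon S).map_comp _ _).trans hl₁)
  have hu₂ : u ≫ h = v := (AlgSp.yon S).map_injective (((AlgSp.yon S).map_comp _ _).trans hl₂)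
  let ku : (Over.mk u₀ : (overCat Z).obj) ⟶ Over.mk u := Over.homMk i hu₁
  let n : ζ₀ ⟶ p.obj (Over.mk u) := ω ≫ p.map ku
  let s : (p.obj (Over.mk u)).obj.snd ⟶ (Over.mk v : (overCat V).obj) :=
    (isoApp ih (Over.mk u)).hom ≫ Over.homMk (𝟙 T) ((Category.id_comp v).trans hu₂.symm)
  have hs' : Vert (𝒳 := overCat V) s :=
    (vert_isoApp ih _).comp (⟨rfl, rfl⟩ : Vert (𝒳 := overCat V)
      (Over.homMk (𝟙 T) ((Category.id_comp v).trans hu₂.symm) : (AlgSt.overMap h).obj (Over.mk u) ⟶ Over.mk v))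
  have hnp : OverHom n i := (overHom_map p ku).vert_comp hω
  refine ⟨(p.obj (Over.mk u)).obj.fst, n.hom.fst,
    (p.obj (Over.mk u)).obj.iso.hom ≫ q.map s ≫ CategoryTheory.inv βq (I := hβq.isIso h𝒴.isStack.1) ≫ jy.hom,
    hnp.map (fpFst f q),
    (vert_fp_iso _).comp ((hs'.map q).comp
      ((Vert.inv (φ := @asIso _ _ _ _ βq (hβq.isIso h𝒴.isStack.1)) hβq).comp hjy)), ?_⟩
  have := hβq.isIso h𝒴.isStack.1
  have w1 : f.map n.hom.fst ≫ (p.obj (Over.mk u)).obj.iso.hom = χ.hom ≫ q.map n.hom.snd := n.hom.w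
  have hns : n.hom.snd ≫ s = kv :=
    overHom_unique ((hnp.map (fpSnd f q)).comp_vert hs') (⟨rfl, rfl, by simp [kv]; rfl⟩)
  rw [reassoc_of% w1, ← q.toFunctor.map_comp_assoc, hns, reassoc_of% hχe]
  simp

/-- The infinitesimal lifting property for objects implies smoothness. -/
theorem smooth_of_liftProp (h𝒳 : AlgSt.IsAlgStack E 𝒳) (h𝒴 : AlgSt.IsAlgStack E 𝒴)
    (hn𝒴 : AlgSt.SmoothLocally (fun T => IsLocallyNoetherian T) 𝒴) (f : 𝒳 ⥤ᵇ 𝒴)
    (hft : AlgSt.LocQ (AlgSp.LocP @LocallyOfFiniteType) f) (H : LiftProp f) :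
    AlgSt.LocQ (AlgSp.LocP @Smooth) f := by
  obtain ⟨V, y, hy, hys⟩ := h𝒴.atlas
  obtain ⟨U, x, h, α, hx, hxs, hl⟩ := exists_smooth_square_etale h𝒳 h𝒴 f hy
  refine ⟨U, V, x, y, h, α, hx, hxs hys, hy, ?_⟩
  have hlft : AlgSp.LocP @LocallyOfFiniteType ((AlgSp.yon S).map h) :=
    mem_of_locQ_of isAlgStack_overCat_etale (isSmoothLocalST_locP smoothLocalProp_lft) h𝒳 h𝒴 hft α hy hl
  have hVn : AlgSp.IsLocNoethSp ((AlgSp.yon S).obj V) :=
    ⟨V, 𝟙 _, AlgSp.repWith_id _ _, AlgSp.repWith_id _ _, hn𝒴 V y hy⟩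
  refine (Groth.Agent.S10602.result (X := ⟨(AlgSp.yon S).obj U, AlgSp.IsAlgSpace.yon_obj U⟩)
    (Y := ⟨(AlgSp.yon S).obj V, AlgSp.IsAlgSpace.yon_obj V⟩) ⟨(AlgSp.yon S).map h⟩ hVn hlft).2 ?_
  intro B' B _ _ _ _ _ _ π hπ hker sB a c _ w
  obtain ⟨u₀, rfl⟩ := (AlgSp.yon S).map_surjective a
  obtain ⟨v, rfl⟩ := (AlgSp.yon S).map_surjective c
  let T : Over S := Over.mk sB
  let T₀ : Over S := Over.mk (Spec.map (CommRingCat.ofHom π) ≫ sB)
  let i : T₀ ⟶ T := Over.homMk (Spec.map (CommRingCat.ofHom π))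
  have hw : u₀ ≫ h = i ≫ v :=
    (AlgSp.yon S).map_injective (((AlgSp.yon S).map_comp _ _).trans (w.trans ((AlgSp.yon S).map_comp _ _).symm))
  suffices key : ∃ g : T ⟶ U, i ≫ g = u₀ ∧ g ≫ h = v by
    obtain ⟨g, h1, h2⟩ := key
    exact ⟨(AlgSp.yon S).map g, ((AlgSp.yon S).map_comp _ _).symm.trans (congrArg _ h1),
      ((AlgSp.yon S).map_comp _ _).symm.trans (congrArg _ h2)⟩
  obtain ⟨t, ht, htm⟩ := hker
  by_cases ht0 : t = 0
  · -- an isomorphism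
    have hb : Function.Bijective π := ⟨(RingHom.injective_iff_ker_eq_bot π).2 (by
      rw [ht, ht0, Ideal.span_singleton_zero]), hπ⟩
    have : IsIso (CommRingCat.ofHom π) :=
      (ConcreteCategory.isIso_iff_bijective (CommRingCat.ofHom π)).2 hb
    have : IsIso i.left := inferInstanceAs (IsIso (Spec.map (CommRingCat.ofHom π)))
    have : IsIso ((Over.forget S).map i) := inferInstanceAs (IsIso i.left)
    have : IsIso i := isIso_of_reflects_iso i (Over.forget S)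
    refine ⟨CategoryTheory.inv i ≫ u₀, IsIso.hom_inv_id_assoc _ _, ?_⟩
    rw [Category.assoc, hw, IsIso.inv_hom_id_assoc]
  have hsimple : IsSimpleModule B' (RingHom.ker π) := by
    rw [isSimpleModule_iff_isAtom, ht]
    refine ⟨fun h => ht0 (Ideal.span_singleton_eq_bot.1 h), fun J hJ => ?_⟩
    rw [eq_bot_iff]
    intro z hz
    obtain ⟨r, rfl⟩ := Ideal.mem_span_singleton'.1 (hJ.1 hz)
    by_cases hr : r ∈ IsLocalRing.maximalIdeal B'
    · rw [htm r hr]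
      exact zero_mem _
    · exfalso
      refine hJ.2 ((Ideal.span_singleton_le_iff_mem (J : Ideal B')).2 ?_)
      obtain ⟨r', hr'⟩ : ∃ r', r' * r = 1 :=
        (isUnit_iff_exists_inv'.1 (IsLocalRing.notMem_maximalIdeal.1 hr))
      have := Ideal.mul_mem_left (J : Ideal B') r' hz
      rwa [← mul_assoc, hr', one_mul] at this
  -- the lift of the object
  let kv : (Over.mk (u₀ ≫ h) : (overCat V).obj) ⟶ Over.mk v := Over.homMk i hw.symm
  let o : (overCat U).obj := Over.mk u₀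
  have hbv : OverHom ((isoApp α o).hom ≫ y.map kv) i := (overHom_map y kv).vert_comp (vert_isoApp α o)
  obtain ⟨ξ, m, β, hm, hβ, hmβ⟩ := H B' B π hπ hsimple sB (x.obj o) (y.obj (Over.mk v)) _ hbv
  have := hβ.isIso h𝒴.isStack.1
  let ζ : (fp f y).obj := fpMk ξ (Over.mk v) (asIso β) hβ
  have hFg : IsFibGrpd (fp f y).p := isFibGrpd_fp h𝒳.isStack.1 (isFibGrpd_overCat V) h𝒴.isStack.1 f y
  obtain ⟨z, jz, hjz⟩ := exists_overFunctor hFg ζ (U := T) hm.2.1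
  let l := fpLift x (AlgSt.overMap h) α
  let M : l.obj o ⟶ ζ := fpHom m kv hmβ
  have hM : OverHom (M ≫ jz.inv) i := (show OverHom M i from hm).comp_vert hjz.inv
  let k : (Over.mk (i ≫ 𝟙 T) : (overCat T).obj) ⟶ Over.mk (𝟙 T) := Over.homMk i rfl
  obtain ⟨χ, hχ, -⟩ := (overHom_map z k).exists_fac hFg hM
  let β₀ : VHom z l (i ≫ 𝟙 T) u₀ := ⟨χ.inv, hχ.inv⟩
  have hJ : RingHom.ker π ^ 2 = ⊥ := StFib.ker_sq_eq_bot π (hI := hsimple)
  obtain ⟨g, β', hg, -⟩ := IsoCls.exists_vhom_lift hFg hl (CommRingCat.ofHom π) hπ hJ rfl rfl i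
    (by simp [i]) (𝟙 T) rfl β₀
  refine ⟨g, hg, ?_⟩
  have hv2 : Vert (𝒳 := overCat V) (jz.inv ≫ β'.1).hom.snd := vert_fp_snd (hjz.inv.comp β'.2)
  exact (eq_of_vert_overCat (a := v) (b := g ≫ h) hv2).symm

end Groth.Agent.StFib.InfCrit
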