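import Groth.Agent.StFib.InfAut

/-!
# Infinitesimal lifting of objects
-/

set_option linter.unusedVariables false
set_option backward.isDefEq.respectTransparency false
set_option backward.isDefEq.respectTransparency.types false

universe u

open CategoryTheory CategoryTheory.Limits AlgebraicGeometry Opposite FibCat

namespace Groth.Agent.StFib.InfCrit

variable {S : Scheme.{u}} {𝒳 𝒴 : AlgSt.Cat S}

/-- `m` lies over `i`. -/
def OverHom {a b : 𝒳.obj} (m : a ⟶ b) {U₀ U : Over S} (i : U₀ ⟶ U) : Prop :=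
  ∃ (ha : 𝒳.p.obj a = U₀) (hb : 𝒳.p.obj b = U), 𝒳.p.map m = eqToHom ha ≫ i ≫ eqToHom hb.symm

section OverHom

variable {a b c : 𝒳.obj} {m : a ⟶ b} {U₀ U U' : Over S} {i : U₀ ⟶ U}

theorem OverHom.comp (hm : OverHom m i) {n : b ⟶ c} {j : U ⟶ U'} (hn : OverHom n j) :
    OverHom (m ≫ n) (i ≫ j) := by
  obtain ⟨ha, hb, e⟩ := hm
  obtain ⟨hb', hc, e'⟩ := hn
  exact ⟨ha, hc, by rw [Functor.map_comp, e, e']; simp⟩

theorem OverHom.comp_vert (hm : OverHom m i) {n : b ⟶ c} (hn : Vert n) : OverHom (m ≫ n) i := by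
  obtain ⟨ha, hb, e⟩ := hm
  exact ⟨ha, hn.1.symm.trans hb, by rw [Functor.map_comp, e, hn.2]; simp⟩

theorem OverHom.vert_comp (hm : OverHom m i) {n : c ⟶ a} (hn : Vert n) : OverHom (n ≫ m) i := by
  obtain ⟨ha, hb, e⟩ := hm
  exact ⟨hn.1.trans ha, hb, by rw [Functor.map_comp, e, hn.2]; simp⟩

theorem OverHom.map (hm : OverHom m i) (F : 𝒳 ⥤ᵇ 𝒴) : OverHom (F.map m) i := by
  obtain ⟨ha, hb, e⟩ := hm
  exact ⟨(F.w_obj a).trans ha, (F.w_obj b).trans hb, by rw [w_map, e]; simp⟩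

theorem OverHom.congr (hm : OverHom m i) {i' : U₀ ⟶ U} (e : i = i') : OverHom m i' := e ▸ hm

theorem overHom_map (F : overCat U ⥤ᵇ 𝒳) {g g' : (overCat U).obj} (k : g ⟶ g') :
    OverHom (F.map k) k.left :=
  ⟨F.w_obj g, F.w_obj g', w_map F k⟩

theorem OverHom.exists_fac (h : IsFibGrpd 𝒳.p) (hm : OverHom m i) {a' : 𝒳.obj} {n : a' ⟶ b}
    (hn : OverHom n i) : ∃ χ : a' ≅ a, Vert χ.hom ∧ χ.hom ≫ m = n := by
  obtain ⟨ha, hb, e⟩ := hm
  obtain ⟨ha', hb', e'⟩ := hn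
  exact grpd_exists_vert_fac h m n (ha'.trans ha.symm) (by rw [e, e']; simp)

theorem vert_cancel (h : IsFibGrpd 𝒳.p) (φ : b ⟶ c) {χ χ' : a ⟶ b} (hχ : Vert χ) (hχ' : Vert χ')
    (e : χ ≫ φ = χ' ≫ φ) : χ = χ' :=
  grpd_cancel h φ e (hχ.2.trans hχ'.2.symm)

end OverHom

/-- Vertical morphisms of the slice between objects with the same domain are between equal objects. -/
theorem eq_of_vert_overCat {V T : Over S} {a b : T ⟶ V} {k : (Over.mk a : (overCat V).obj) ⟶ Over.mk b}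
    (hk : Vert (𝒳 := overCat V) k) : a = b := by
  obtain ⟨_, e⟩ := hk
  change k.left = _ at e
  have h := Over.w k
  rw [e] at h
  exact h.symm.trans (Category.id_comp b)

theorem overHom_unique {V : Over S} {g g' : (overCat V).obj} {U₀ U : Over S} {i : U₀ ⟶ U} {k k' : g ⟶ g'}
    (h : OverHom (𝒳 := overCat V) k i) (h' : OverHom (𝒳 := overCat V) k' i) : k = k' := by
  obtain ⟨_, _, e⟩ := h
  obtain ⟨_, _, e'⟩ := h'
  exact Over.OverMorphism.ext (e.trans e'.symm)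

/-- Objects lift along small extensions of Artinian local rings. -/
def LiftProp (f : 𝒳 ⥤ᵇ 𝒴) : Prop :=
  ∀ (A A₀ : Type u) [CommRing A] [IsArtinianRing A] [IsLocalRing A] [CommRing A₀] [IsLocalRing A₀]
    (φ : A →+* A₀) (_ : Function.Surjective φ) (_ : IsSimpleModule A (RingHom.ker φ))
    (sA : Spec (CommRingCat.of A) ⟶ S) (ξ₀ : 𝒳.obj) (η : 𝒴.obj) (b : f.obj ξ₀ ⟶ η),
    OverHom b (Over.homMk (Spec.map (CommRingCat.ofHom φ)) rfl :
      Over.mk (Spec.map (CommRingCat.ofHom φ) ≫ sA) ⟶ Over.mk sA) →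
    ∃ (ξ : 𝒳.obj) (m : ξ₀ ⟶ ξ) (β : f.obj ξ ⟶ η),
      OverHom m (Over.homMk (Spec.map (CommRingCat.ofHom φ)) rfl :
        Over.mk (Spec.map (CommRingCat.ofHom φ) ≫ sA) ⟶ Over.mk sA) ∧ Vert β ∧ f.map m ≫ β = b

/-- The lifting criterion for one thickening. -/
def LiftFun (f : 𝒳 ⥤ᵇ 𝒴) {U₀ U : Over S} (i : U₀ ⟶ U) : Prop :=
  ∀ (x : overCat U₀ ⥤ᵇ 𝒳) (y : overCat U ⥤ᵇ 𝒴)
    (α : BasedFunctor.comp x f ≅ BasedFunctor.comp (AlgSt.overMap i) y),
    ∃ (c : overCat U ⥤ᵇ fp f y),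
      Nonempty (BasedFunctor.comp c (fpSnd f y) ≅ AlgSt.overMap (𝟙 U)) ∧
      Nonempty (BasedFunctor.comp (AlgSt.overMap i) c ≅ fpLift x (AlgSt.overMap i) α)

/-- The lifting of objects for one thickening. -/
def LiftObj (f : 𝒳 ⥤ᵇ 𝒴) {U₀ U : Over S} (i : U₀ ⟶ U) : Prop :=
  ∀ (ξ₀ : 𝒳.obj) (η : 𝒴.obj) (b : f.obj ξ₀ ⟶ η), OverHom b i →
    ∃ (ξ : 𝒳.obj) (m : ξ₀ ⟶ ξ) (β : f.obj ξ ⟶ η), OverHom m i ∧ Vert β ∧ f.map m ≫ β = b

theorem vert_overToId_of_vert {U : Over S} (g : (overCat U).obj)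
    (e : g ≅ Over.mk (𝟙 U ≫ 𝟙 U)) (he : Vert (𝒳 := overCat U) e.hom) : Vert (𝒳 := overCat U) (overToId g) := by
  have h1 : Vert (𝒳 := overCat U) (overToId (Over.mk (𝟙 U ≫ 𝟙 U))) := by
    refine ⟨rfl, ?_⟩
    change 𝟙 U ≫ 𝟙 U = 𝟙 U
    exact Category.id_comp _
  have h2 : overToId g = e.hom ≫ overToId _ := by
    refine Over.OverMorphism.ext ?_
    exact (Over.w e.hom).symm
  exact h2 ▸ he.comp h1

theorem liftObj_of_liftFun (h𝒳 : IsFibGrpd 𝒳.p) (h𝒴 : IsFibGrpd 𝒴.p) (f : 𝒳 ⥤ᵇ 𝒴) {U₀ U : Over S}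
    {i : U₀ ⟶ U} (H : LiftFun f i) : LiftObj f i := by
  intro ξ₀ η b hb
  obtain ⟨x, jx, hjx⟩ := exists_overFunctor h𝒳 ξ₀ ((f.w_obj ξ₀).symm.trans hb.1)
  obtain ⟨y, jy, hjy⟩ := exists_overFunctor h𝒴 η hb.2.1
  let k : (AlgSt.overMap i).obj (Over.mk (𝟙 U₀)) ⟶ Over.mk (𝟙 U) := overToId _
  have hk : k.left = i := Category.id_comp i
  have hn : OverHom (f.map jx.hom ≫ b) i := hb.vert_comp (hjx.map f)
  have hyk : OverHom (y.map k ≫ jy.hom) i := ((overHom_map y k).comp_vert hjy).congr hk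
  obtain ⟨χ, hχ, hχe⟩ := hyk.exists_fac h𝒴 hn
  obtain ⟨α, hα⟩ := exists_overIso h𝒴 (BasedFunctor.comp x f) (BasedFunctor.comp (AlgSt.overMap i) y) χ hχ
  obtain ⟨c, ⟨ic⟩, ⟨ir⟩⟩ := H x y α
  let o := Over.mk (𝟙 U₀)
  let ξ := (c.obj (Over.mk (𝟙 U))).obj.fst
  let r := isoApp ir o
  have hr : Vert r.inv := (vert_isoApp ir o).inv
  let m : ξ₀ ⟶ ξ := jx.inv ≫ r.inv.hom.fst ≫ (c.map k).hom.fst
  have hm : OverHom m i :=
    (((overHom_map (BasedFunctor.comp c (fpFst f y)) k).congr hk).vert_comp (vert_fp_iff.1 hr)).vert_comp hjx.inv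
  have hv : Vert (𝒳 := overCat U) (overToId (c.obj (Over.mk (𝟙 U))).obj.snd) :=
    vert_overToId_of_vert _ (isoApp ic (Over.mk (𝟙 U))) (vert_isoApp ic _)
  refine ⟨ξ, m, (c.obj (Over.mk (𝟙 U))).obj.iso.hom ≫ y.map (overToId _) ≫ jy.hom, hm,
    (vert_fp_iso _).comp ((hv.map y).comp hjy), ?_⟩
  have w1 : f.map (c.map k).hom.fst ≫ (c.obj (Over.mk (𝟙 U))).obj.iso.hom =
      (c.obj ((AlgSt.overMap i).obj o)).obj.iso.hom ≫ y.map (c.map k).hom.snd := (c.map k).hom.w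
  have w2 : f.map r.inv.hom.fst ≫ (c.obj ((AlgSt.overMap i).obj o)).obj.iso.hom =
      (isoApp α o).hom ≫ y.map r.inv.hom.snd := r.inv.hom.w
  have hs : r.inv.hom.snd ≫ (c.map k).hom.snd ≫ overToId _ = k :=
    Over.OverMorphism.ext (by
      rw [hk]
      exact ((Over.w (r.inv.hom.snd ≫ (c.map k).hom.snd ≫ overToId _)).trans (Category.id_comp _) ▸
        (Category.comp_id _).symm : _))
  calc f.map m ≫ (c.obj (Over.mk (𝟙 U))).obj.iso.hom ≫ y.map (overToId _) ≫ jy.hom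
      = f.map jx.inv ≫ (isoApp α o).hom ≫ y.map (r.inv.hom.snd ≫ (c.map k).hom.snd ≫ overToId _) ≫ jy.hom := by
        simp only [m, Functor.map_comp, Category.assoc]
        rw [reassoc_of% w1, reassoc_of% w2]
    _ = b := by
        rw [hs, hα, hχe, ← Category.assoc, ← f.toFunctor.map_comp, jx.inv_hom_id, f.toFunctor.map_id]
        exact Category.id_comp b

theorem liftFun_of_liftObj (h𝒳 : IsFibGrpd 𝒳.p) (h𝒴 : IsFibGrpd 𝒴.p) (f : 𝒳 ⥤ᵇ 𝒴) {U₀ U : Over S}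
    {i : U₀ ⟶ U} (H : LiftObj f i) : LiftFun f i := by
  intro x y α
  let o := Over.mk (𝟙 U₀)
  let k : (AlgSt.overMap i).obj o ⟶ Over.mk (𝟙 U) := overToId _
  have hk : k.left = i := Category.id_comp i
  obtain ⟨ξ, m, β, hm, hβ, hmβ⟩ := H (x.obj o) (y.obj (Over.mk (𝟙 U))) ((isoApp α o).hom ≫ y.map k)
    (((overHom_map y k).congr hk).vert_comp (vert_isoApp α o))
  obtain ⟨xt, j, hj⟩ := exists_overFunctor h𝒳 ξ hm.2.1
  let k1 : (AlgSt.overMap (𝟙 U)).obj (Over.mk (𝟙 U)) ⟶ Over.mk (𝟙 U) := overToId _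
  have h1 : Vert (f.map j.hom ≫ β) := (hj.map f).comp hβ
  have hk1 : Vert (y.map k1) := by
    refine Vert.map y (⟨rfl, ?_⟩ : Vert (𝒳 := overCat U) k1)
    change 𝟙 U ≫ 𝟙 U = 𝟙 U
    exact Category.id_comp _
  have := hk1.isIso h𝒴
  have h2 : Vert (f.map j.hom ≫ β ≫ CategoryTheory.inv (y.map k1)) :=
    (hj.map f).comp (hβ.comp (Vert.inv (φ := asIso (y.map k1)) hk1))
  have := h2.isIso h𝒴
  obtain ⟨β', hβ'⟩ := exists_overIso h𝒴 (BasedFunctor.comp xt f)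
    (BasedFunctor.comp (AlgSt.overMap (𝟙 U)) y)
    (asIso (f.map j.hom ≫ β ≫ CategoryTheory.inv (y.map k1))) h2
  have hmi : OverHom (xt.map k ≫ j.hom) i := ((overHom_map xt k).comp_vert hj).congr hk
  obtain ⟨χ, hχ, hχe⟩ := hm.exists_fac h𝒳 hmi
  obtain ⟨γ, hγ⟩ := exists_overIso h𝒳 (BasedFunctor.comp (AlgSt.overMap i) xt) x χ hχ
  refine ⟨fpLift xt (AlgSt.overMap (𝟙 U)) β', ⟨Iso.refl _⟩, ⟨?_⟩⟩
  let e : ∀ a, (AlgSt.overMap (𝟙 U)).obj ((AlgSt.overMap i).obj a) ≅ (AlgSt.overMap i).obj a := fun a =>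
    Over.isoMk (Iso.refl _) (by
      change 𝟙 _ ≫ (Over.hom a ≫ i) = (Over.hom a ≫ i) ≫ 𝟙 U
      rw [Category.id_comp, Category.comp_id])
  refine isoMk (fun a => fpIsoMk (isoApp γ a) (e a) ?_) (fun a => vert_isoApp γ a)
    (fun {a a'} p => fp_hom_ext (isoApp_naturality γ p) (Over.OverMorphism.ext
      ((Category.comp_id _).trans (Category.id_comp _).symm)))
  let g := (AlgSt.overMap i).obj a
  change f.map (isoApp γ a).hom ≫ (isoApp α a).hom = (isoApp β' g).hom ≫ y.map (e a).hom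
  refine vert_cancel h𝒴 (y.map (overToId g)) (((vert_isoApp γ a).map f).comp (vert_isoApp α a))
    ((vert_isoApp β' g).comp (Vert.map y (⟨rfl, rfl⟩ : Vert (𝒳 := overCat U) (e a).hom))) ?_
  have ek : overToId g = (AlgSt.overMap i).map (overToId a) ≫ k := Over.OverMorphism.ext (by
    rw [Over.comp_left, hk]
    rfl)
  have ek1 : (e a).hom ≫ overToId g = (AlgSt.overMap (𝟙 U)).map (overToId g) ≫ k1 := Over.OverMorphism.ext (by
    change 𝟙 _ ≫ (Over.hom a ≫ i) = (Over.hom a ≫ i) ≫ 𝟙 U ≫ 𝟙 U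
    simp)
  calc (f.map (isoApp γ a).hom ≫ (isoApp α a).hom) ≫ y.map (overToId g)
      = f.map ((isoApp γ a).hom ≫ x.map (overToId a)) ≫ (isoApp α o).hom ≫ y.map k := by
        rw [ek, y.toFunctor.map_comp, f.toFunctor.map_comp]
        simp only [Category.assoc]
        congr 1
        exact ((Category.assoc _ _ _).symm.trans (congrArg (· ≫ y.map k) (isoApp_naturality α (overToId a)).symm)).trans
          (Category.assoc _ _ _)
    _ = f.map (xt.map (overToId g)) ≫ f.map j.hom ≫ β := by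
        have hh : f.map χ.hom ≫ f.map m ≫ β = f.map (xt.map k) ≫ f.map j.hom ≫ β := by
          rw [← f.toFunctor.map_comp_assoc, hχe, f.toFunctor.map_comp, Category.assoc]
        rw [← isoApp_naturality γ, hγ, ← hmβ, f.toFunctor.map_comp]
        refine ((Category.assoc _ _ _).trans (congrArg (f.map _ ≫ ·) hh)).trans ?_
        rw [ek, xt.toFunctor.map_comp, f.toFunctor.map_comp]
        exact (Category.assoc _ _ _).symm
    _ = ((isoApp β' g).hom ≫ y.map (e a).hom) ≫ y.map (overToId g) := by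
        rw [Category.assoc, ← y.toFunctor.map_comp, ek1, y.toFunctor.map_comp]
        refine Eq.symm (((Category.assoc _ _ _).symm.trans
          (congrArg (· ≫ y.map k1) (isoApp_naturality β' (overToId g)).symm)).trans ?_)
        rw [Category.assoc, hβ']
        simp
        rfl

end Groth.Agent.StFib.InfCrit
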